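import Mathlib
import Groth.Prelude.Def_SGA1
import Groth.Agent.SGA1Quot.AffineQuot
import Groth.Agent.SGA1Quot.Existence

/-!
# Proj of the invariants is the quotient of Proj
-/

set_option autoImplicit false
set_option backward.isDefEq.respectTransparency false
set_option backward.isDefEq.respectTransparency.types false

universe u

open CategoryTheory AlgebraicGeometry TopologicalSpace Opposite HomogeneousLocalization Graded Polynomial

namespace Groth.Agent.ZeroCyc28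

/-- sections over `V` read in a chart `Spec S → X` contained in `V` -/
noncomputable def chartMap {X : Scheme.{u}} {S : CommRingCat.{u}} (j : Spec S ⟶ X) (V : X.Opens)
    (h : ⊤ ≤ j ⁻¹ᵁ V) : Γ(X, V) ⟶ S :=
  j.appLE V ⊤ h ≫ (Scheme.ΓSpecIso S).hom

theorem chartMap_comm {X Y : Scheme.{u}} {S T : CommRingCat.{u}} (a : X ⟶ Y) (jX : Spec S ⟶ X) (jY : Spec T ⟶ Y)
    (θ : T ⟶ S) (e : jX ≫ a = Spec.map θ ≫ jY) (V : Y.Opens) (W : X.Opens) (hW : ⊤ ≤ jX ⁻¹ᵁ W)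
    (hV : ⊤ ≤ jY ⁻¹ᵁ V) (hWV : W ≤ a ⁻¹ᵁ V) :
    a.appLE V W hWV ≫ chartMap jX W hW = chartMap jY V hV ≫ θ := by
  have key : ∀ (b b' : Spec S ⟶ Y) (h : ⊤ ≤ b ⁻¹ᵁ V) (h' : ⊤ ≤ b' ⁻¹ᵁ V), b = b' →
      b.appLE V ⊤ h = b'.appLE V ⊤ h' := by
    rintro b b' h h' rfl
    rfl
  rw [chartMap, chartMap, ← Category.assoc, Scheme.Hom.appLE_comp_appLE, key _ (Spec.map θ ≫ jY) _
    (le_top.trans ((Spec.map θ).preimage_mono hV)) e, ← Scheme.Hom.appLE_comp_appLE (Spec.map θ) jY V ⊤ ⊤ hV le_top,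
    Category.assoc, Category.assoc]
  congr 1
  rw [← Scheme.ΓSpecIso_naturality]
  simp [Scheme.Hom.appTop, Scheme.Hom.app_eq_appLE]

theorem val_comp_eq_awayMap {S T σS σT : Type u} [CommRing S] [SetLike σS S] [AddSubgroupClass σS S]
    {𝒮 : ℕ → σS} [GradedRing 𝒮] [CommRing T] [SetLike σT T] [AddSubgroupClass σT T] {𝒯 : ℕ → σT} [GradedRing 𝒯]
    (φ : S →+* T) {n : ℕ} {f : S} (hf : f ∈ 𝒮 n) (hg : φ f ∈ 𝒯 n) (θ : Away 𝒮 f →+* Away 𝒯 (φ f))
    (h : ∀ (k : ℕ) (a : S) (ha : a ∈ 𝒮 (k • n)), ∃ hb : φ a ∈ 𝒯 (k • n),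
      θ (Away.mk 𝒮 hf k a ha) = Away.mk 𝒯 hg k (φ a) hb) :
    (algebraMap (Away 𝒯 (φ f)) (Localization.Away (φ f))).comp θ =
      (Localization.awayMap φ f).comp (algebraMap (Away 𝒮 f) (Localization.Away f)) := by
  refine RingHom.ext fun z => ?_
  obtain ⟨k, a, ha, rfl⟩ := Away.mk_surjective 𝒮 hf z
  obtain ⟨hb, hθ⟩ := h k a ha
  simp only [RingHom.comp_apply, HomogeneousLocalization.algebraMap_apply]
  rw [hθ, Away.val_mk, Away.val_mk, Localization.awayMap, IsLocalization.Away.map, Localization.mk_eq_mk',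
    Localization.mk_eq_mk', IsLocalization.map_mk']
  congr 1
  exact Subtype.ext (map_pow φ f k).symm

variable {R A C : Type u} [CommRing R] [CommRing A] [Algebra R A] [CommRing C] [Algebra R C]
  {𝒜 : ℕ → Submodule R A} [GradedAlgebra 𝒜] {𝒞 : ℕ → Submodule R C} [GradedAlgebra 𝒞]
  {G : Type u} [Group G] [Finite G] [MulSemiringAction G A]

variable (𝒜) in
/-- the action by graded ring maps -/
noncomputable def actHom (hGdeg : ∀ (σ : G) (i : ℕ) (a : A), a ∈ 𝒜 i → σ • a ∈ 𝒜 i) (σ : G) : 𝒜 →+*ᵍ 𝒜 where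
  toRingHom := MulSemiringAction.toRingHom G A σ
  map_mem {_ _} h := hGdeg σ _ _ h

theorem exists_invariant_notMem (hGdeg : ∀ (σ : G) (i : ℕ) (a : A), a ∈ 𝒜 i → σ • a ∈ 𝒜 i)
    (P : Ideal A) [P.IsPrime] {m : ℕ} (hm : 0 < m) {f : A} (hf : f ∈ 𝒜 m) (hfP : f ∉ P) :
    ∃ (n : ℕ) (e : A), 0 < n ∧ e ∈ 𝒜 n ∧ (∀ σ : G, σ • e = e) ∧ e ∉ P := by
  classical
  haveI := Fintype.ofFinite G
  set s : Multiset A := (Finset.univ : Finset G).val.map fun σ => σ • f with hs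
  by_contra hne
  push_neg at hne
  have hsmul : ∀ σ : G, s.map (fun a => σ • a) = s := by
    intro σ
    rw [hs, Multiset.map_map]
    have h := congrArg Finset.val (Finset.map_univ_equiv (Equiv.mulLeft σ))
    rw [Finset.map_val] at h
    conv_rhs => rw [← h, Multiset.map_map]
    exact Multiset.map_congr rfl fun τ _ => (mul_smul σ τ f).symm
  have hsym : ∀ j, 1 ≤ j → s.esymm j ∈ P := by
    intro j hj
    refine hne (j * m) (s.esymm j) (by positivity) ?_ fun σ => ?_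
    · rw [hs, Finset.esymm_map_val]
      refine sum_mem fun t ht => ?_
      have := SetLike.prod_mem_graded 𝒜 (fun _ : G => m) (fun σ => σ • f) (F := t) fun σ _ => hGdeg σ m f hf
      rw [Finset.sum_const, (Finset.mem_powersetCard.mp ht).2, smul_eq_mul] at this
      exact this
    · have h := (MulSemiringAction.toRingHom G A σ).map_multiset_sum
        ((s.powersetCard j).map Multiset.prod)
      rw [Multiset.esymm]
      refine h.trans ?_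
      rw [Multiset.map_map]
      conv_rhs => rw [← hsmul σ, Multiset.powersetCard_map, Multiset.map_map]
      refine congrArg Multiset.sum (Multiset.map_congr rfl fun t _ => ?_)
      exact map_multiset_prod (MulSemiringAction.toRingHom G A σ) t
  set q : A[X] := (s.map fun t => X - Polynomial.C t).prod with hq
  have hroot : q.eval f = 0 := by
    rw [hq, Polynomial.eval_multiset_prod, Multiset.map_map]
    refine Multiset.prod_eq_zero (Multiset.mem_map.mpr ⟨f, ?_, by simp⟩)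
    exact Multiset.mem_map.mpr ⟨1, Finset.mem_univ_val _, one_smul G f⟩
  refine hfP (Ideal.IsPrime.mem_of_pow_mem ‹_› (Multiset.card s) ?_)
  rcases subsingleton_or_nontrivial A with h | h
  · rw [Subsingleton.elim (f ^ _) 0]; exact P.zero_mem
  have hmon : q.Monic := Polynomial.monic_multiset_prod_of_monic _ _ fun t _ => Polynomial.monic_X_sub_C t
  have hdeg : q.natDegree = Multiset.card s := Polynomial.natDegree_multiset_prod_X_sub_C_eq_card s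
  rw [hmon.as_sum, hdeg, Polynomial.eval_add, Polynomial.eval_pow, Polynomial.eval_X,
    Polynomial.eval_finsetSum, add_eq_zero_iff_eq_neg] at hroot
  rw [hroot]
  refine P.neg_mem (P.sum_mem fun k hk => ?_)
  rw [Finset.mem_range] at hk
  rw [Polynomial.eval_mul, Polynomial.eval_C, Polynomial.eval_pow, Polynomial.eval_X, hq,
    Multiset.prod_X_sub_C_coeff s hk.le]
  exact P.mul_mem_right _ (P.mul_mem_left _ (hsym _ (by omega)))

theorem val_mk' {S : Type u} [CommRing S] {σ' : Type u} [SetLike σ' S] [AddSubgroupClass σ' S] {ℬ : ℕ → σ'}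
    [GradedRing ℬ] {n : ℕ} {f : S} (hf : f ∈ ℬ n) (k : ℕ) (x : S) (hx : x ∈ ℬ (k • n)) :
    (Away.mk ℬ hf k x hx).val = Localization.mk x (⟨f ^ k, k, rfl⟩ : Submonoid.powers f) := Away.val_mk ..

theorem isQuot_proj_invariants (hGdeg : ∀ (σ : G) (i : ℕ) (a : A), a ∈ 𝒜 i → σ • a ∈ 𝒜 i)
    (ψ : 𝒞 →+*ᵍ 𝒜) (hψ : Function.Injective ψ)
    (hinvψ : ∀ (i : ℕ) (a : A), (∃ x ∈ 𝒞 i, ψ x = a) ↔ (a ∈ 𝒜 i ∧ ∀ σ : G, σ • a = a))
    (ρ : G →* Aut (Proj 𝒜))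
    (hρ : ∀ (σ : G) (n : ℕ) (f g : A) (hn : 0 < n) (hf : f ∈ 𝒜 n) (hg : g ∈ 𝒜 n) (_ : σ • f = g)
      (θ : CommRingCat.of (Away 𝒜 f) ⟶ CommRingCat.of (Away 𝒜 g)),
      (∀ (k : ℕ) (a : A) (ha : a ∈ 𝒜 (k • n)),
        θ.hom (Away.mk 𝒜 hf k a ha) = Away.mk 𝒜 hg k (σ • a) (hGdeg σ _ a ha)) →
      Proj.awayι 𝒜 g hg hn ≫ (ρ σ).inv = Spec.map θ ≫ Proj.awayι 𝒜 f hf hn)
    (π : Proj 𝒜 ⟶ Proj 𝒞)
    (hπ : ∀ (n : ℕ) (c : C) (hn : 0 < n) (hc : c ∈ 𝒞 n),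
      Proj.awayι 𝒜 (ψ c) (map_mem ψ hc) hn ≫ π =
        Spec.map (CommRingCat.ofHom (Away.map ψ c)) ≫ Proj.awayι 𝒞 c hc hn) :
    SGA1.IsQuot ρ π := by
  classical
  have hfix : ∀ {n : ℕ} {c : C}, c ∈ 𝒞 n → ∀ σ : G, σ • ψ c = ψ c := fun {n c} hc σ =>
    ((hinvψ n (ψ c)).mp ⟨c, hc, rfl⟩).2 σ
  -- the action on invariant charts
  let θσ : ∀ (σ : G) {n : ℕ} {c : C}, c ∈ 𝒞 n → (Away 𝒜 (ψ c) →+* Away 𝒜 (ψ c)) := fun σ {n c} hc =>
    (congrArg (fun z => Away 𝒜 (ψ c) →+* Away 𝒜 z) (hfix hc σ)) ▸ Away.map (actHom 𝒜 hGdeg σ) (ψ c)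
  have hθσ : ∀ (σ : G) {n : ℕ} {c : C} (hc : c ∈ 𝒞 n) (k : ℕ) (a : A) (ha : a ∈ 𝒜 (k • n)),
      θσ σ hc (Away.mk 𝒜 (map_mem ψ hc) k a ha) = Away.mk 𝒜 (map_mem ψ hc) k (σ • a) (hGdeg σ _ a ha) := by
    intro σ n c hc k a ha
    have aux : ∀ (z : A) (e : σ • ψ c = z) (hz : z ∈ 𝒜 n),
        ((congrArg (fun z => Away 𝒜 (ψ c) →+* Away 𝒜 z) e) ▸ Away.map (actHom 𝒜 hGdeg σ) (ψ c) :
          Away 𝒜 (ψ c) →+* Away 𝒜 z) (Away.mk 𝒜 (map_mem ψ hc) k a ha) =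
          Away.mk 𝒜 hz k (σ • a) (hGdeg σ _ a ha) := by
      rintro z rfl hz
      exact Away.map_mk (actHom 𝒜 hGdeg σ) (ψ c) (map_mem ψ hc) k a ha
    exact aux _ (hfix hc σ) _
  have hρc : ∀ (σ : G) {n : ℕ} {c : C} (hn : 0 < n) (hc : c ∈ 𝒞 n),
      Proj.awayι 𝒜 (ψ c) (map_mem ψ hc) hn ≫ (ρ σ).inv =
        Spec.map (CommRingCat.ofHom (θσ σ hc)) ≫ Proj.awayι 𝒜 (ψ c) (map_mem ψ hc) hn := fun σ {n c} hn hc =>
    hρ σ n (ψ c) (ψ c) hn (map_mem ψ hc) (map_mem ψ hc) (hfix hc σ) _ (hθσ σ hc)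
  have hcov : ∀ x : Proj 𝒜, ∃ (n : ℕ) (c : C), 0 < n ∧ c ∈ 𝒞 n ∧ x ∈ Proj.basicOpen 𝒜 (ψ c) := by
    intro x
    obtain ⟨m, hm, f, hf, hfx⟩ : ∃ m, 0 < m ∧ ∃ f ∈ 𝒜 m, f ∉ x.asHomogeneousIdeal := by
      by_contra hne
      push_neg at hne
      exact x.not_irrelevant_le (show _ ≤ x.asHomogeneousIdeal.toIdeal from
        (HomogeneousIdeal.toIdeal_irrelevant_le _).mpr fun i hi a ha => hne i hi a ha)
    haveI := x.isPrime
    obtain ⟨n, e, hn, he, hinv, heP⟩ := exists_invariant_notMem hGdeg x.asHomogeneousIdeal.toIdeal hm hf hfx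
    obtain ⟨c, hc, rfl⟩ := (hinvψ n e).mpr ⟨he, hinv⟩
    exact ⟨n, c, hn, hc, heP⟩
  have hpre : ∀ {n : ℕ} {c : C}, 0 < n → c ∈ 𝒞 n → π ⁻¹ᵁ Proj.basicOpen 𝒞 c = Proj.basicOpen 𝒜 (ψ c) := by
    intro n c hn hc
    ext x
    obtain ⟨n', c', hn', hc', hx⟩ := hcov x
    rw [← Proj.opensRange_awayι 𝒜 (ψ c') (map_mem ψ hc') hn'] at hx
    obtain ⟨y, rfl⟩ := hx
    have he : Proj.awayι 𝒜 (ψ c') (map_mem ψ hc') hn' ⁻¹ᵁ (π ⁻¹ᵁ Proj.basicOpen 𝒞 c) =
        Proj.awayι 𝒜 (ψ c') (map_mem ψ hc') hn' ⁻¹ᵁ Proj.basicOpen 𝒜 (ψ c) := by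
      rw [← Scheme.Hom.comp_preimage, hπ n' c' hn' hc', Scheme.Hom.comp_preimage,
        Proj.awayι_preimage_basicOpen 𝒞 hc' hn' hc hn, Proj.awayι_preimage_basicOpen 𝒜 _ hn' (map_mem ψ hc) hn]
      refine (SpecMap_preimage_basicOpen _ _).trans (congrArg _ ?_)
      change Away.map ψ c' (Away.isLocalizationElem hc' hc) = _
      refine (Away.map_mk ψ c' hc' _ _ _).trans (val_injective _ ?_)
      rw [val_mk', val_mk', map_pow]
    exact (SetLike.ext_iff.mp he y :)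
  have hD : ∀ y : Proj 𝒞, ∃ i : Σ' (n : ℕ) (c : C), 0 < n ∧ c ∈ 𝒞 n, y ∈ Proj.basicOpen 𝒞 i.2.1 := by
    intro y
    by_contra hne
    push_neg at hne
    exact y.not_irrelevant_le (show _ ≤ y.asHomogeneousIdeal.toIdeal from
      (HomogeneousIdeal.toIdeal_irrelevant_le _).mpr fun i hi a ha => not_not.mp (hne ⟨i, a, hi, ha⟩))
  haveI : IsAffineHom π := isAffineHom_of_forall_exists_isAffineOpen π fun y => by
    obtain ⟨⟨n, c, hn, hc⟩, hy⟩ := hD y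
    exact ⟨_, hy, Proj.isAffineOpen_basicOpen 𝒞 c hc hn,
      hpre hn hc ▸ Proj.isAffineOpen_basicOpen 𝒜 (ψ c) (map_mem ψ hc) hn⟩
  have hinv : ∀ g : G, (ρ g).hom ≫ π = π := by
    have h1 : ∀ σ : G, (ρ σ).inv ≫ π = π := by
      intro σ
      refine ((Proj 𝒜).openCoverOfIsOpenCover
        (fun i : Σ' (n : ℕ) (c : C), 0 < n ∧ c ∈ 𝒞 n => Proj.basicOpen 𝒜 (ψ i.2.1))
        (top_le_iff.mp fun x _ => ?_)).hom_ext _ _ fun i => ?_
      · obtain ⟨n, c, hn, hc, hx⟩ := hcov x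
        exact Opens.mem_iSup.mpr ⟨⟨n, c, hn, hc⟩, hx⟩
      · obtain ⟨n, c, hn, hc⟩ := i
        rw [← cancel_epi (Proj.basicOpenIsoSpec 𝒜 (ψ c) (map_mem ψ hc) hn).inv]
        change _ ≫ (Proj.basicOpen 𝒜 (ψ c)).ι ≫ _ = _ ≫ (Proj.basicOpen 𝒜 (ψ c)).ι ≫ _
        simp only [Proj.basicOpenIsoSpec_inv_ι_assoc]
        rw [reassoc_of% (hρc σ hn hc), hπ n c hn hc, ← Spec.map_comp_assoc]
        congr 2
        refine CommRingCat.hom_ext (RingHom.ext fun z => ?_)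
        obtain ⟨k, a, ha, rfl⟩ := Away.mk_surjective 𝒞 hc z
        change θσ σ hc (Away.map ψ c _) = Away.map ψ c _
        rw [Away.map_mk, hθσ σ hc]
        congr 1
        exact ((hinvψ _ (ψ a)).mp ⟨a, ha, rfl⟩).2 σ
    intro g
    rw [← (Iso.inv_comp_eq (ρ g)).mp (h1 g)]
  have hin : ∀ {n : ℕ} {c : C} (hn : 0 < n) (hc : c ∈ 𝒞 n),
      ⊤ ≤ Proj.awayι 𝒜 (ψ c) (map_mem ψ hc) hn ⁻¹ᵁ (π ⁻¹ᵁ Proj.basicOpen 𝒞 c) ∧
      ⊤ ≤ Proj.awayι 𝒞 c hc hn ⁻¹ᵁ Proj.basicOpen 𝒞 c := by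
    intro n c hn hc
    refine ⟨fun y _ => ?_, fun y _ => ?_⟩
    · rw [hpre hn hc, ← Proj.opensRange_awayι 𝒜 (ψ c) (map_mem ψ hc) hn]
      exact ⟨y, rfl⟩
    · rw [← Proj.opensRange_awayι 𝒞 c hc hn]
      exact ⟨y, rfl⟩
  have hbij : ∀ {S : Scheme.{u}} {T : CommRingCat.{u}} (j : Spec T ⟶ S) [IsOpenImmersion j] (V : S.Opens)
      (h : ⊤ ≤ j ⁻¹ᵁ V), j.opensRange = V → Function.Bijective (chartMap j V h).hom := by
    intro S T j _ V h hV
    haveI := SGA1Quot.isIso_appLE_image j V ⊤ h (by rw [← hV]; exact (j.image_top_eq_opensRange).symm)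
    haveI : IsIso (chartMap j V h) := by unfold chartMap; infer_instance
    exact ConcreteCategory.bijective_of_isIso _
  refine SGA1Quot.isQuot_of_cover ρ π hinv (fun i : Σ' (n : ℕ) (c : C), 0 < n ∧ c ∈ 𝒞 n => Proj.basicOpen 𝒞 i.2.1)
    (fun i => Proj.isAffineOpen_basicOpen 𝒞 i.2.1 i.2.2.2 i.2.2.1) hD ?_ ?_
  · rintro ⟨n, c, hn, hc⟩ s t hst
    apply (hbij _ _ (hin hn hc).2 (Proj.opensRange_awayι 𝒞 c hc hn)).1
    have hθ : Function.Injective (Away.map ψ c) := by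
      rw [injective_iff_map_eq_zero]
      intro z hz
      obtain ⟨k, a, ha, rfl⟩ := Away.mk_surjective 𝒞 hc z
      rw [Away.map_mk] at hz
      apply val_injective
      have hz' := congrArg HomogeneousLocalization.val hz
      rw [val_mk', val_zero, ← Localization.mk_zero 1, Localization.mk_eq_mk_iff, Localization.r_iff_exists] at hz'
      obtain ⟨⟨_, l, rfl⟩, hl⟩ := hz'
      rw [val_mk', val_zero, ← Localization.mk_zero 1, Localization.mk_eq_mk_iff, Localization.r_iff_exists]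
      refine ⟨⟨c ^ l, l, rfl⟩, hψ ?_⟩
      simpa using hl
    apply hθ
    have key := fun r => ConcreteCategory.congr_hom (chartMap_comm π (Proj.awayι 𝒜 (ψ c) (map_mem ψ hc) hn)
      (Proj.awayι 𝒞 c hc hn) _ (hπ n c hn hc) _ _ (hin hn hc).1 (hin hn hc).2 le_rfl) r
    rw [Scheme.Hom.app_eq_appLE] at hst
    exact ((key s).symm.trans (congrArg (chartMap _ _ (hin hn hc).1).hom hst)).trans (key t)
  · rintro ⟨n, c, hn, hc⟩ s hs
    set jA := Proj.awayι 𝒜 (ψ c) (map_mem ψ hc) hn with hjA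
    have hz : ∀ σ : G, θσ σ hc (chartMap jA _ (hin hn hc).1 s) = chartMap jA _ (hin hn hc).1 s := by
      intro σ
      have e : jA ≫ (ρ σ⁻¹).hom = Spec.map (CommRingCat.ofHom (θσ σ hc)) ≫ jA := by
        rw [map_inv]
        exact hρc σ hn hc
      have h2 := ConcreteCategory.congr_hom (chartMap_comm (ρ σ⁻¹).hom jA jA _ e _ _ (hin hn hc).1 (hin hn hc).1
        (SGA1.preimage_le_of_inv ρ π hinv σ⁻¹ (Proj.basicOpen 𝒞 c))) s
      exact h2.symm.trans (congrArg (chartMap jA _ (hin hn hc).1).hom (hs σ))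
    obtain ⟨k, a, ha, hka⟩ := Away.mk_surjective 𝒜 (map_mem ψ hc) (chartMap jA _ (hin hn hc).1 s)
    have hl : ∀ σ : G, ∃ l, ψ c ^ l * (σ • a) = ψ c ^ l * a := by
      intro σ
      have h := hz σ
      rw [← hka, hθσ σ hc] at h
      have h' := congrArg HomogeneousLocalization.val h
      rw [val_mk', val_mk', Localization.mk_eq_mk_iff, Localization.r_iff_exists] at h'
      obtain ⟨⟨_, l, rfl⟩, hl⟩ := h'
      refine ⟨l + k, ?_⟩
      simpa [pow_add, mul_assoc] using hl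
    choose l hl using hl
    haveI := Fintype.ofFinite G
    set M := Finset.univ.sup l with hM
    have ha' : ψ c ^ M * a ∈ 𝒜 ((M + k) * n) := by
      rw [add_mul]
      exact SetLike.mul_mem_graded (by simpa [smul_eq_mul] using SetLike.pow_mem_graded M (map_mem ψ hc))
        (by simpa [smul_eq_mul] using ha)
    obtain ⟨x, hx, hxa⟩ := (hinvψ ((M + k) * n) (ψ c ^ M * a)).mpr ⟨ha', fun σ => by
      obtain ⟨d, hd⟩ := Nat.exists_eq_add_of_le (show l σ ≤ M from Finset.le_sup (Finset.mem_univ σ))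
      rw [smul_mul', smul_pow', hfix hc σ, hd, pow_add, mul_comm (_ ^ l σ) (_ ^ d), mul_assoc, hl σ, ← mul_assoc]⟩
    obtain ⟨t, ht⟩ := (hbij _ _ (hin hn hc).2 (Proj.opensRange_awayι 𝒞 c hc hn)).2
      (Away.mk 𝒞 hc (M + k) x (by rwa [smul_eq_mul]))
    refine ⟨t, (hbij _ _ (hin hn hc).1 ((Proj.opensRange_awayι 𝒜 (ψ c) (map_mem ψ hc) hn).trans (hpre hn hc).symm)).1 ?_⟩
    have key := ConcreteCategory.congr_hom (chartMap_comm π jA
      (Proj.awayι 𝒞 c hc hn) _ (hπ n c hn hc) _ _ (hin hn hc).1 (hin hn hc).2 le_rfl) t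
    rw [Scheme.Hom.app_eq_appLE]
    refine key.trans ?_
    change Away.map ψ c ((chartMap _ _ (hin hn hc).2).hom t) = _
    rw [ht, Away.map_mk, ← hka]
    apply val_injective
    rw [val_mk', val_mk', Localization.mk_eq_mk_iff, Localization.r_iff_exists]
    exact ⟨1, by simp [hxa, pow_add]; ring⟩

end Groth.Agent.ZeroCyc28
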